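import Cfsg.Agent.Lib.PSL2.Involution

/-!
# Goldschmidt's theorem, rank two: pairs of involutions of `PSL₂(q)` with product of odd order

More than a third of the pairs of involutions of `PSL₂(q)`, `q ≥ 5` odd, have a product of odd order.
-/

set_option autoImplicit false
set_option linter.unusedSectionVars false

open Matrix

namespace CfsgLib.Goldschmidt.RankTwoHand

universe u

/-- If no involution commutes with more than `k + 1` involutions, then at most `k (k - 1)` involutions have a
product of even order with a given one: for each such `y` the involution of `⟨x y⟩` commutes with both. -/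
theorem ncard_even_product_le {G : Type*} [Group G] [Finite G] {x : G} (hx : orderOf x = 2) {k : ℕ}
    (hk : ∀ i : G, orderOf i = 2 → {y : G | orderOf y = 2 ∧ y * i = i * y}.ncard ≤ k + 1) :
    {y : G | orderOf y = 2 ∧ Even (orderOf (x * y))}.ncard ≤ k * (k - 1) := by
  classical
  have : Fintype G := Fintype.ofFinite G
  have hsq : ∀ {i : G}, orderOf i = 2 → i * i = 1 := fun {i} hi => by
    rw [← sq, ← hi]; exact pow_orderOf_eq_one i
  have hinv : ∀ {i : G}, orderOf i = 2 → i⁻¹ = i := fun {i} hi =>
    inv_eq_of_mul_eq_one_right (hsq hi)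
  set I : Finset G := Finset.univ.filter fun i => orderOf i = 2 ∧ i * x = x * i ∧ i ≠ x with hI
  have hIk : I.card ≤ k := by
    have h := hk x hx
    have hxmem : x ∈ {y : G | orderOf y = 2 ∧ y * x = x * y} := ⟨hx, rfl⟩
    have h' := Set.ncard_sdiff_singleton_add_one hxmem
    have : (↑I : Set G) = {y : G | orderOf y = 2 ∧ y * x = x * y} \ {x} := by
      ext y; simp [hI, and_assoc]
    rw [← Set.ncard_coe_finset, this]
    omega
  have hfib : ∀ i ∈ I,
      (Finset.univ.filter fun y => orderOf y = 2 ∧ y * i = i * y ∧ y ≠ x ∧ y ≠ i).card ≤ k - 1 := by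
    intro i hi
    rw [hI, Finset.mem_filter] at hi
    obtain ⟨-, hi2, hix, hne⟩ := hi
    have hsub : ({x, i} : Set G) ⊆ {y : G | orderOf y = 2 ∧ y * i = i * y} := by
      rintro y (rfl | rfl)
      · exact ⟨hx, hix.symm⟩
      · exact ⟨hi2, rfl⟩
    have h2 := Set.ncard_sdiff hsub (Set.toFinite _)
    rw [Set.ncard_pair (Ne.symm hne)] at h2
    have heq : (↑(Finset.univ.filter fun y => orderOf y = 2 ∧ y * i = i * y ∧ y ≠ x ∧ y ≠ i) : Set G) =
        {y : G | orderOf y = 2 ∧ y * i = i * y} \ {x, i} := by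
      ext y; simp [and_assoc]
    have := hk i hi2
    rw [← Set.ncard_coe_finset, heq, h2]
    omega
  have hcov : (Finset.univ.filter fun y => orderOf y = 2 ∧ Even (orderOf (x * y))) ⊆
      I.biUnion fun i => Finset.univ.filter fun y => orderOf y = 2 ∧ y * i = i * y ∧ y ≠ x ∧ y ≠ i := by
    intro y hy
    obtain ⟨-, hy2, j, hj⟩ := Finset.mem_filter.1 hy
    rw [← two_mul] at hj
    have hj0 : j ≠ 0 := by
      intro h
      subst h
      exact (orderOf_pos (x * y)).ne' hj
    have hyx : y ≠ x := by
      rintro rfl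
      rw [hsq hy2, orderOf_one] at hj
      omega
    set i := (x * y) ^ j with hi
    have hi2 : orderOf i = 2 := by
      rw [hi, orderOf_pow_of_dvd hj0 (by rw [hj]; exact dvd_mul_left j 2), hj,
        Nat.mul_div_cancel _ (Nat.pos_of_ne_zero hj0)]
    have hxy : i * (x * y) = x * y * i := ((Commute.refl (x * y)).pow_left j).eq
    have hix : i * x = x * i := by
      have h1 : x * i * x⁻¹ = i := by
        calc x * i * x⁻¹ = (x * (x * y) * x⁻¹) ^ j := by rw [hi, conj_pow]
          _ = ((x * y)⁻¹) ^ j := by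
            rw [← mul_assoc, hsq hx, one_mul, _root_.mul_inv_rev, hinv hx, hinv hy2]
          _ = i := by rw [inv_pow, ← hi, hinv hi2]
      calc i * x = x * i * x⁻¹ * x := by rw [h1]
        _ = x * i := inv_mul_cancel_right _ _
    have hiy : y * i = i * y := by
      apply mul_left_cancel (a := x)
      rw [← mul_assoc, ← hxy, ← mul_assoc, hix, mul_assoc]
    have hne : i ≠ x := by
      intro h
      have hc : y * x = x * y := by rw [h] at hiy; exact hiy
      have h2 : (x * y) ^ 2 = 1 := by
        rw [sq, mul_assoc, ← mul_assoc y, hc, mul_assoc, hsq hy2, mul_one, hsq hx]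
      have hj1 : j = 1 := by
        have := Nat.le_of_dvd two_pos (hj ▸ orderOf_dvd_of_pow_eq_one h2)
        omega
      rw [hi, hj1, pow_one, mul_eq_left] at h
      rw [h, orderOf_one] at hy2
      omega
    have hny : y ≠ i := by
      intro h
      have hc : x * y = y * x := by rw [h]; exact hix.symm
      have h2 : (x * y) ^ 2 = 1 := by
        rw [sq, mul_assoc, ← mul_assoc y, ← hc, mul_assoc, hsq hy2, mul_one, hsq hx]
      have hj1 : j = 1 := by
        have := Nat.le_of_dvd two_pos (hj ▸ orderOf_dvd_of_pow_eq_one h2)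
        omega
      rw [hi, hj1, pow_one, eq_comm, mul_eq_right] at h
      rw [h, orderOf_one] at hx
      omega
    exact Finset.mem_biUnion.2 ⟨i, Finset.mem_filter.2 ⟨Finset.mem_univ _, hi2, hix, hne⟩,
      Finset.mem_filter.2 ⟨Finset.mem_univ _, hy2, hiy, hyx, hny⟩⟩
  have hset : ({y : G | orderOf y = 2 ∧ Even (orderOf (x * y))} : Set G) =
      ↑(Finset.univ.filter fun y => orderOf y = 2 ∧ Even (orderOf (x * y))) := by
    ext y; simp
  rw [hset, Set.ncard_coe_finset]
  exact ((Finset.card_le_card hcov).trans (Finset.card_biUnion_le_card_mul I _ (k - 1) hfib)).trans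
    (Nat.mul_le_mul_right _ hIk)

/-- A dihedral group of order `2 m` has at most `m + 1` involutions. -/
theorem ncard_involutions_dihedral {m : ℕ} [NeZero m] :
    {g : DihedralGroup m | orderOf g = 2}.ncard ≤ m + 1 := by
  have hR : {i : ZMod m | i + i = 0 ∧ i ≠ 0}.ncard ≤ 1 := by
    rw [Set.ncard_le_one_iff]
    rintro a b ⟨ha, ha0⟩ ⟨hb, hb0⟩
    have key : ∀ i : ZMod m, i + i = 0 → i ≠ 0 → 2 * i.val = m := by
      intro i hi hi0
      have h := congrArg ZMod.val hi
      rw [ZMod.val_add, ZMod.val_zero] at h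
      have h1 := ZMod.val_lt i
      have h2 : i.val ≠ 0 := (ZMod.val_ne_zero i).2 hi0
      obtain ⟨c, hc⟩ := Nat.dvd_of_mod_eq_zero h
      have : c = 1 := by
        rcases c with _ | _ | c
        · omega
        · rfl
        · nlinarith
      subst this
      omega
    exact ZMod.val_injective m (by have := key a ha ha0; have := key b hb hb0; omega)
  have hsub : {g : DihedralGroup m | orderOf g = 2} ⊆
      DihedralGroup.sr '' (Set.univ : Set (ZMod m)) ∪ DihedralGroup.r '' {i : ZMod m | i + i = 0 ∧ i ≠ 0} := by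
    rintro g (hg : orderOf g = 2)
    cases g with
    | sr i => exact Or.inl ⟨i, trivial, rfl⟩
    | r i =>
      refine Or.inr ⟨i, ⟨?_, fun h => ?_⟩, rfl⟩
      · have h := pow_orderOf_eq_one (DihedralGroup.r i)
        rw [hg, sq, DihedralGroup.r_mul_r, DihedralGroup.one_def, DihedralGroup.r.injEq] at h
        exact h
      · rw [h, ← DihedralGroup.one_def, orderOf_one] at hg
        omega
  refine (Set.ncard_le_ncard hsub).trans ((Set.ncard_union_le _ _).trans ?_)
  refine Nat.add_le_add ((Set.ncard_image_le).trans ?_) ((Set.ncard_image_le).trans hR)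
  rw [Set.ncard_univ, Nat.card_zmod]

variable {F : Type*} [Field F] [Fintype F]

local notation "PSL" => ProjectiveSpecialLinearGroup (Fin 2) F

/-- The order `2 m` of the centraliser of an involution of `PSL₂(q)` and the number of its involutions. -/
theorem exists_psl_centralizer (hodd : Odd (Fintype.card F)) :
    ∃ m : ℕ, (2 * m + 1 = Fintype.card F ∨ 2 * m = Fintype.card F + 1) ∧
      ∀ i : PSL, orderOf i = 2 → Nat.card (Subgroup.centralizer {i} : Subgroup PSL) = 2 * m ∧
        {y : PSL | orderOf y = 2 ∧ y * i = i * y}.ncard ≤ m + 1 := by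
  classical
  obtain ⟨p, hp⟩ := CharP.exists F
  have : Fact p.Prime := ⟨CharP.char_is_prime F p⟩
  let ι : F →+* AlgebraicClosure F := algebraMap F _
  have : CharP (AlgebraicClosure F) p := charP_of_injective_ringHom ι.injective p
  obtain ⟨Φ, hΦ⟩ := PSL2.exists_frob (F := F) (L := AlgebraicClosure F) p
  have h2 := PSL2.two_ne_zero_of_odd hodd
  have hq := Fintype.one_lt_card (α := F)
  have hoddq := Nat.odd_iff.1 hodd
  have main : ∀ {x y : OnePoint (AlgebraicClosure F)} {e : ℕ}, PSL2.IsPair ι Φ x y e → 4 ∣ e →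
      ∀ i : PSL, orderOf i = 2 → Nat.card (Subgroup.centralizer {i} : Subgroup PSL) = 2 * (e / 2) ∧
        {z : PSL | orderOf z = 2 ∧ z * i = i * z}.ncard ≤ e / 2 + 1 := by
    intro x y e h h4 i hi
    obtain ⟨j, hj, hC, hc⟩ := PSL2.exists_centralizer_eq hodd hΦ h h4
    have hconj := PSL2.isConj_of_orderOf_two h2 hi hj
    have hd : Nat.gcd 2 (Fintype.card F - 1) = 2 := PSL2.gcd_eq_two hodd
    refine ⟨by rw [PSL2.card_centralizer_conj hconj, hC, (PSL2.pslPair_dihedral hΦ h).1, hd], ?_⟩
    obtain ⟨g, hg⟩ := isConj_iff.1 hconj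
    obtain ⟨φ⟩ := (PSL2.pslPair_dihedral hΦ h).2
    rw [hd] at φ
    have he0 : e ≠ 0 := fun h0 => by
      have := Nat.card_pos (α := PSL2.pslPair ι x y)
      rw [hc, h0] at this
      omega
    have : NeZero (e / 2) := ⟨by omega⟩
    refine le_trans ?_ (ncard_involutions_dihedral (m := e / 2))
    have hmem : ∀ z : PSL, z * i = i * z → g * z * g⁻¹ ∈ PSL2.pslPair ι x y := by
      intro z hz
      rw [← hC, Subgroup.mem_centralizer_singleton_iff, ← hg,
        show g * z * g⁻¹ * (g * i * g⁻¹) = g * (z * i) * g⁻¹ by group, hz]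
      group
    refine Set.ncard_le_ncard_of_injOn
      (fun z => if hz : z * i = i * z then φ ⟨_, hmem z hz⟩ else 1) ?_ ?_
    · intro z hz
      simp only [Set.mem_ofPred_eq] at hz ⊢
      rw [dif_pos hz.2, φ.orderOf_eq, Subgroup.orderOf_mk]
      exact (orderOf_injective (MulAut.conj g).toMonoidHom (MulEquiv.injective _) z).trans hz.1
    · intro z hz w hw hzw
      simp only [Set.mem_ofPred_eq] at hz hw
      simp only [dif_pos hz.2, dif_pos hw.2] at hzw
      exact mul_left_cancel (mul_right_cancel (congrArg Subtype.val (φ.injective hzw)))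
  by_cases h4 : Fintype.card F % 4 = 1
  · obtain ⟨x, y, h⟩ := PSL2.exists_isPair_split (ι := ι) (Φ := Φ)
    exact ⟨(Fintype.card F - 1) / 2, Or.inl (by omega), main h (by omega)⟩
  · obtain ⟨x, y, h⟩ := PSL2.exists_isPair_nonsplit hΦ (ι := ι)
    exact ⟨(Fintype.card F + 1) / 2, Or.inr (by omega), main h (by omega)⟩

/-- More than a third of the involutions have a product of odd order with a given one. -/
theorem psl_ncard_involutions_lt_three_mul_odd (hodd : Odd (Fintype.card F)) (h5 : 5 ≤ Fintype.card F)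
    {x : PSL} (hx : orderOf x = 2) :
    {y : PSL | orderOf y = 2}.ncard < 3 * {y : PSL | orderOf y = 2 ∧ Odd (orderOf (x * y))}.ncard := by
  classical
  obtain ⟨m, hm, hcent⟩ := exists_psl_centralizer hodd
  have h2 := PSL2.two_ne_zero_of_odd hodd
  have hle := ncard_even_product_le hx fun i hi => (hcent i hi).2
  have hsplit : {y : PSL | orderOf y = 2}.ncard ≤
      {y : PSL | orderOf y = 2 ∧ Even (orderOf (x * y))}.ncard +
        {y : PSL | orderOf y = 2 ∧ Odd (orderOf (x * y))}.ncard := by
    refine le_trans (Set.ncard_le_ncard ?_) (Set.ncard_union_le _ _)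
    intro y hy
    rcases Nat.even_or_odd (orderOf (x * y)) with h | h
    · exact Or.inl ⟨hy, h⟩
    · exact Or.inr ⟨hy, h⟩
  have hclass : {y : PSL | orderOf y = 2} = MulAction.orbit (ConjAct PSL) x := by
    ext y
    rw [ConjAct.mem_orbit_conjAct]
    constructor
    · intro hy
      exact PSL2.isConj_of_orderOf_two h2 hy hx
    · intro h
      obtain ⟨g, rfl⟩ := isConj_iff.1 h.symm
      exact (orderOf_injective (MulAut.conj g).toMonoidHom (MulEquiv.injective _) x).trans hx
  have horb := Subgroup.card_mul_index (MulAction.stabilizer (ConjAct PSL) x)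
  rw [MulAction.index_stabilizer, ← hclass, ConjAct.stabilizer_eq_centralizer] at horb
  have hcard : Nat.card ↥(Subgroup.centralizer {ConjAct.toConjAct x}) = 2 * m := (hcent x hx).1
  rw [hcard, show Nat.card (ConjAct PSL) = Nat.card PSL from rfl] at horb
  have hpsl := PSL2.card_psl (F := F)
  rw [PSL2.gcd_eq_two hodd, ← horb] at hpsl
  obtain ⟨t, ht⟩ : ∃ t, Fintype.card F = t + 5 := ⟨Fintype.card F - 5, by omega⟩
  rw [ht] at hpsl hm
  rw [show t + 5 - 1 = t + 4 by omega] at hpsl
  obtain ⟨s, hs⟩ : ∃ s, m = s + 1 := ⟨m - 1, by omega⟩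
  subst hs
  rw [Nat.add_sub_cancel] at hle
  have key : 3 * {y : PSL | orderOf y = 2 ∧ Even (orderOf (x * y))}.ncard <
      2 * {y : PSL | orderOf y = 2}.ncard := by
    refine lt_of_le_of_lt (Nat.mul_le_mul_left 3 hle) ?_
    rcases hm with hm | hm
    · have hn : {y : PSL | orderOf y = 2}.ncard = (s + 2) * (2 * s + 3) :=
        Nat.eq_of_mul_eq_mul_left (show 0 < 4 * (s + 1) by omega) (by
          rw [show t + 5 + 1 = 2 * (s + 2) by omega, show t + 5 = 2 * s + 3 by omega,
            show t + 4 = 2 * (s + 1) by omega] at hpsl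
          linarith)
      rw [hn]
      nlinarith
    · have hn : {y : PSL | orderOf y = 2}.ncard = s * (2 * s + 1) :=
        Nat.eq_of_mul_eq_mul_left (show 0 < 4 * (s + 1) by omega) (by
          rw [show t + 5 + 1 = 2 * (s + 1) by omega, show t + 5 = 2 * s + 1 by omega,
            show t + 4 = 2 * s by omega] at hpsl
          linarith)
      rw [hn]
      nlinarith [show 2 ≤ s by omega]
  omega

end CfsgLib.Goldschmidt.RankTwoHand
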